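import Mathlib.Data.Finset.Card
import Mathlib.Algebra.Ring.Parity
import Mathlib.Data.Fintype.Basic
import Mathlib.Algebra.Module.Pi
import Mathlib.Algebra.BigOperators.GroupWithZero.Finset
import Mathlib.Algebra.Module.BigOperators
import Mathlib.RingTheory.MvPolynomial.Ideal
import Mathlib.Tactic.LinearCombination
import Mathlib.Tactic.Module

/-!
# Koszul chains as functions on finite subsets of the variables
-/

set_option autoImplicit false
set_option linter.unusedSectionVars false

universe u v w

namespace Groth.Agent.GreenSyz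

open Finset

variable {ι : Type v} [Fintype ι] [LinearOrder ι]

/-- The sign of inserting `v` into `S`. -/
def sgn (v : ι) (S : Finset ι) : ℤ := (-1) ^ (S.filter (· < v)).card

theorem sgn_mul_self (v : ι) (S : Finset ι) : sgn v S * sgn v S = 1 := by
  rw [sgn, ← pow_add, ← two_mul, pow_mul]; simp

theorem sgn_swap {u v : ι} (huv : u ≠ v) {S : Finset ι} (hu : u ∉ S) (hv : v ∉ S) :
    sgn v S * sgn u (insert v S) = -(sgn u S * sgn v (insert u S)) := by
  simp only [sgn, Finset.filter_insert]
  rcases lt_or_gt_of_ne huv with h | h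
  · rw [if_neg (not_lt.2 h.le), if_pos h, Finset.card_insert_of_notMem (by simp [hu]), pow_succ]
    ring
  · rw [if_pos h, if_neg (not_lt.2 h.le), Finset.card_insert_of_notMem (by simp [hv]), pow_succ]
    ring

variable {A : Type u} [CommRing A] {M : Type w} [AddCommGroup M] [Module A M] (x : ι → A)

/-- The differential. -/
def d : (Finset ι → M) →+ (Finset ι → M) where
  toFun c S := ∑ v ∈ univ \ S, sgn v S • x v • c (insert v S)
  map_zero' := by funext S; simp
  map_add' a b := by funext S; simp [smul_add, sum_add_distrib]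

theorem d_apply (c : Finset ι → M) (S : Finset ι) :
    d x c S = ∑ v ∈ univ \ S, sgn v S • x v • c (insert v S) := rfl

/-- Exterior multiplication by a basis vector. -/
def wedge (u : ι) : (Finset ι → M) →+ (Finset ι → M) where
  toFun c S := if u ∈ S then sgn u (S.erase u) • c (S.erase u) else 0
  map_zero' := by funext S; simp
  map_add' a b := by funext S; by_cases h : u ∈ S <;> simp [h]

theorem wedge_apply (u : ι) (c : Finset ι → M) (S : Finset ι) :
    wedge u c S = if u ∈ S then sgn u (S.erase u) • c (S.erase u) else 0 := rfl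

theorem d_wedge (u : ι) (c : Finset ι → M) : d x (wedge u c) + wedge u (d x c) = x u • c := by
  funext S
  rw [Pi.add_apply, Pi.smul_apply, wedge_apply, d_apply, d_apply]
  by_cases hu : u ∈ S
  · rw [if_pos hu]
    have hset : univ \ S.erase u = insert u (univ \ S) := by
      ext v
      by_cases hv : v = u <;> simp [hv]
    rw [hset, Finset.sum_insert (by simp [hu]), Finset.insert_erase hu, smul_add, ← mul_smul, sgn_mul_self, one_smul,
      Finset.smul_sum, add_comm (x u • c S), ← add_assoc, ← Finset.sum_add_distrib, Finset.sum_eq_zero, zero_add]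
    intro v hv
    have hvS : v ∉ S := (Finset.mem_sdiff.1 hv).2
    have hvu : v ≠ u := fun h => hvS (h ▸ hu)
    have he : (insert v S).erase u = insert v (S.erase u) := Finset.erase_insert_of_ne hvu
    have hsw := sgn_swap hvu.symm (Finset.notMem_erase u S) (fun h => hvS (Finset.mem_of_mem_erase h))
    rw [Finset.insert_erase hu] at hsw
    rw [wedge_apply, if_pos (Finset.mem_insert_of_mem hu), he, smul_comm (x v) (sgn u _), ← mul_smul, ← mul_smul,
      ← add_smul]
    rw [show sgn v S * sgn u (insert v (S.erase u)) + sgn u (S.erase u) * sgn v (S.erase u) = 0 from ?_, zero_smul]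
    have h1 := sgn_mul_self v (S.erase u)
    linear_combination (sgn v S * sgn v (S.erase u)) * hsw - (sgn v S * sgn u (insert v (S.erase u))) * h1 -
      (sgn u (S.erase u) * sgn v (S.erase u)) * (sgn_mul_self v S)
  · rw [if_neg hu, add_zero, Finset.sum_eq_single u]
    · rw [wedge_apply, if_pos (Finset.mem_insert_self _ _), Finset.erase_insert hu, smul_comm (x u), ← mul_smul,
        sgn_mul_self, one_smul]
    · intro v _ hvu
      rw [wedge_apply, if_neg (by simp [hu, Ne.symm hvu]), smul_zero, smul_zero]
    · intro h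
      exact absurd (Finset.mem_sdiff.2 ⟨Finset.mem_univ _, hu⟩) h

theorem d_d (c : Finset ι → M) : d x (d x c) = 0 := by
  funext S
  simp only [d_apply, Pi.zero_apply, Finset.smul_sum]
  rw [Finset.sum_sigma' (univ \ S) (fun v => univ \ insert v S)]
  refine Finset.sum_involution (fun p _ => ⟨p.2, p.1⟩) ?_ ?_ ?_ (fun p _ => rfl)
  · rintro ⟨v, u⟩ hp
    simp only [Finset.mem_sigma, Finset.mem_sdiff, Finset.mem_univ, true_and, Finset.mem_insert, not_or] at hp
    obtain ⟨hv, huv, hu⟩ := hp
    simp only
    rw [smul_comm (x v) (sgn u _), smul_comm (x u) (sgn v _), Finset.insert_comm v u S,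
      smul_comm (x v) (x u), ← mul_smul (sgn v S), ← mul_smul (sgn u S), ← add_smul, sgn_swap huv hu hv, neg_add_cancel, zero_smul]
  · rintro ⟨v, u⟩ hp _ h
    simp only [Finset.mem_sigma, Finset.mem_sdiff, Finset.mem_univ, true_and, Finset.mem_insert, not_or] at hp
    exact hp.2.1 (congrArg Sigma.fst h)
  · rintro ⟨v, u⟩ hp
    simp only [Finset.mem_sigma, Finset.mem_sdiff, Finset.mem_univ, true_and, Finset.mem_insert, not_or] at hp ⊢
    exact ⟨hp.2.2, Ne.symm hp.2.1, hp.1⟩

theorem d_map {N : Type*} [AddCommGroup N] [Module A N] (f : M →ₗ[A] N) (c : Finset ι → M) :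
    d x (fun S => f (c S)) = fun S => f (d x c S) := by
  funext S
  simp only [d_apply, map_sum, map_zsmul, map_smul]

/-- Chains concentrated in cardinality `q`. -/
def Card (q : ℕ) (c : Finset ι → M) : Prop := ∀ S : Finset ι, S.card ≠ q → c S = 0

theorem Card.d_card {q : ℕ} {c : Finset ι → M} (h : Card (q + 1) c) : Card q (d x c) := by
  intro S hS
  refine Finset.sum_eq_zero fun v hv => ?_
  rw [h _ (by rw [Finset.card_insert_of_notMem (Finset.mem_sdiff.1 hv).2]; omega), smul_zero, smul_zero]

theorem Card.d_zero {c : Finset ι → M} (h : Card 0 c) : d x c = 0 := by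
  funext S
  refine Finset.sum_eq_zero fun v _ => ?_
  rw [h _ (Finset.card_ne_zero_of_mem (Finset.mem_insert_self v S)), smul_zero, smul_zero]

theorem Card.wedge_card {q : ℕ} {c : Finset ι → M} (h : Card q c) (u : ι) : Card (q + 1) (wedge u c) := by
  intro S hS
  rw [wedge_apply]
  split_ifs with hu
  · rw [h _ (by rw [Finset.card_erase_of_mem hu]; have := Finset.card_pos.2 ⟨u, hu⟩; omega), smul_zero]
  · rfl

theorem Card.add {q : ℕ} {a b : Finset ι → M} (ha : Card q a) (hb : Card q b) : Card q (a + b) :=
  fun S hS => by rw [Pi.add_apply, ha S hS, hb S hS, add_zero]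

theorem Card.sub {q : ℕ} {a b : Finset ι → M} (ha : Card q a) (hb : Card q b) : Card q (a - b) :=
  fun S hS => by rw [Pi.sub_apply, ha S hS, hb S hS, sub_zero]

theorem Card.map {q : ℕ} {c : Finset ι → M} (h : Card q c) {N : Type*} [AddCommGroup N] {F : Type*}
    [FunLike F M N] [AddMonoidHomClass F M N] (f : F) : Card q (fun S => f (c S)) :=
  fun S hS => by simp [h S hS]

/-- A chain supported in the subsets of `W`. -/
def Supp (W : Finset ι) (c : Finset ι → M) : Prop := ∀ S : Finset ι, ¬ S ⊆ W → c S = 0

section Poly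

variable {k : Type u} [CommRing k]

open MvPolynomial in
/-- A variable is regular modulo other variables. -/
theorem mem_span_of_X_mul_mem {W : Finset ι} {m : ι} (hm : m ∉ W) {a : MvPolynomial ι k}
    (h : MvPolynomial.X m * a ∈ Ideal.span (MvPolynomial.X '' (W : Set ι))) :
    a ∈ Ideal.span (MvPolynomial.X '' (W : Set ι)) := by
  classical
  rw [MvPolynomial.mem_ideal_span_X_image] at h ⊢
  intro e he
  obtain ⟨i, hi, hne⟩ := h (Finsupp.single m 1 + e) (by
    rw [MvPolynomial.mem_support_iff, MvPolynomial.coeff_X_mul]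
    exact MvPolynomial.mem_support_iff.1 he)
  refine ⟨i, hi, ?_⟩
  rwa [Finsupp.add_apply, Finsupp.single_eq_of_ne (a := m) (a' := i) (by rintro rfl; exact hm (Finset.mem_coe.1 hi)), zero_add] at hne

local notation "Xc" => (MvPolynomial.X : ι → MvPolynomial ι k)

theorem d_eq_sum_supp {W : Finset ι} {c : Finset ι → MvPolynomial ι k} (hc : Supp W c) (S : Finset ι) :
    d Xc c S = ∑ v ∈ W \ S, sgn v S • Xc v • c (insert v S) := by
  refine (Finset.sum_subset (Finset.sdiff_subset_sdiff (Finset.subset_univ W) le_rfl) fun v hv hv' => ?_).symm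
  rw [hc _ fun h => hv' (Finset.mem_sdiff.2 ⟨h (Finset.mem_insert_self v S), (Finset.mem_sdiff.1 hv).2⟩),
    smul_zero, smul_zero]

theorem exists_of_mem_span {W : Finset ι} {a : MvPolynomial ι k} (h : a ∈ Ideal.span (Xc '' (W : Set ι))) :
    ∃ β : Finset ι → MvPolynomial ι k, Card 1 β ∧ Supp W β ∧ d Xc β ∅ = a := by
  classical
  refine Submodule.span_induction (p := fun a _ => ∃ β : Finset ι → MvPolynomial ι k, Card 1 β ∧ Supp W β ∧
    d Xc β ∅ = a) ?_ ⟨0, fun _ _ => rfl, fun _ _ => rfl, by simp⟩ ?_ ?_ h
  · rintro _ ⟨v, hv, rfl⟩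
    refine ⟨fun S => if S = {v} then 1 else 0, fun S hS => if_neg fun h => hS (by simp [h]),
      fun S hS => if_neg fun h => hS (by simp [h, Finset.mem_coe.1 hv]), ?_⟩
    rw [d_apply, Finset.sum_eq_single v]
    · simp [sgn]
    · intro w _ hw
      simp [hw]
    · simp
  · rintro a b _ _ ⟨β, h1, h2, rfl⟩ ⟨γ, g1, g2, rfl⟩
    exact ⟨β + γ, h1.add g1, fun S hS => by rw [Pi.add_apply, h2 S hS, g2 S hS, add_zero], by rw [map_add]; rfl⟩
  · rintro r a _ ⟨β, h1, h2, rfl⟩
    exact ⟨fun S => (LinearMap.mulLeft (MvPolynomial ι k) r) (β S), h1.map _, fun S hS => by simp [h2 S hS],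
      by rw [d_map]; simp⟩

/-- Koszul chains over a polynomial ring are exact in positive degree. -/
theorem exact_poly (W : Finset ι) : ∀ (q : ℕ) (c : Finset ι → MvPolynomial ι k), Card (q + 1) c → Supp W c →
    d Xc c = 0 → ∃ b, Card (q + 2) b ∧ Supp W b ∧ d Xc b = c := by
  classical
  induction W using Finset.induction_on with
  | empty =>
    intro q c hc hs _
    refine ⟨0, fun _ _ => rfl, fun _ _ => rfl, ?_⟩
    rw [map_zero]
    funext S
    by_cases hS : S ⊆ ∅
    · rw [hc S (by rw [Finset.subset_empty.1 hS]; simp), Pi.zero_apply]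
    · rw [hs S hS, Pi.zero_apply]
  | @insert m W hm ih =>
    intro q c hc hs hd
    let bb : Finset ι → MvPolynomial ι k := fun S => if S ⊆ W then sgn m S • c (insert m S) else 0
    have hbc : Card q bb := fun S hS => by
      simp only [bb]
      split_ifs with h
      · rw [hc _ (by rw [Finset.card_insert_of_notMem (fun h' => hm (h h'))]; omega), smul_zero]
      · rfl
    have hbs : Supp W bb := fun S hS => if_neg hS
    have hbd : d Xc bb = 0 := by
      funext S
      rw [d_eq_sum_supp hbs, Pi.zero_apply]
      by_cases hS : S ⊆ W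
      · have hmS : m ∉ S := fun h => hm (hS h)
        have hins : insert m W \ insert m S = W \ S := by
          ext v
          by_cases hv : v = m
          · simp [hv, hm]
          · simp [hv]
        have h0 := congrFun hd (insert m S)
        rw [d_eq_sum_supp hs, hins, Pi.zero_apply] at h0
        have h1 : (-sgn m S) • ∑ v ∈ W \ S, sgn v (insert m S) • Xc v • c (insert v (insert m S)) = 0 := by
          rw [h0, smul_zero]
        rw [Finset.smul_sum] at h1
        refine (Finset.sum_congr rfl fun v hv => ?_).trans h1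
        obtain ⟨hvW, hvS⟩ := Finset.mem_sdiff.1 hv
        simp only [bb, if_pos (Finset.insert_subset hvW hS)]
        rw [smul_comm (Xc v) (sgn m _), ← mul_smul, ← mul_smul, Finset.insert_comm m v S,
          sgn_swap (u := m) (by rintro rfl; exact hm hvW) hmS hvS]
        congr 1
        ring
      · refine Finset.sum_eq_zero fun v hv => ?_
        rw [hbs _ fun h => hS ((Finset.subset_insert v S).trans h), smul_zero, smul_zero]
    obtain ⟨β, hβc, hβs, hβd⟩ : ∃ β, Card (q + 1) β ∧ Supp W β ∧ d Xc β = bb := by
      rcases q with _ | q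
      · have h0 := congrFun hd ∅
        rw [d_eq_sum_supp hs, Finset.sdiff_empty, Finset.sum_insert hm, Pi.zero_apply] at h0
        have hmem : Xc m * bb ∅ ∈ Ideal.span (Xc '' (W : Set ι)) := by
          have e : Xc m * bb ∅ = -∑ v ∈ W, sgn v ∅ • Xc v • c (insert v ∅) := by
            rw [eq_neg_iff_add_eq_zero, ← h0]
            simp only [bb, Finset.empty_subset, if_true, mul_smul_comm, smul_eq_mul]
          rw [e]
          exact neg_mem (Submodule.sum_mem _ fun v hv => zsmul_mem
            (by rw [smul_eq_mul]; exact Ideal.mul_mem_right _ _ (Ideal.subset_span ⟨v, Finset.mem_coe.2 hv, rfl⟩)) _)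
        obtain ⟨β, h1, h2, h3⟩ := exists_of_mem_span (mem_span_of_X_mul_mem hm hmem)
        refine ⟨β, h1, h2, funext fun S => ?_⟩
        by_cases hS : S.card = 0
        · rw [Finset.card_eq_zero.1 hS, h3]
        · rw [(h1.d_card Xc) S hS, hbc S hS]
      · exact ih q bb hbc hbs hbd
    let c' : Finset ι → MvPolynomial ι k := c + d Xc (wedge m β)
    have hc' : c' = fun S => if m ∈ S then 0 else c S + Xc m • β S := by
      funext S
      have h1 := congrFun (d_wedge Xc m β) S
      rw [Pi.add_apply, hβd, Pi.smul_apply] at h1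
      show c S + d Xc (wedge m β) S = _
      rw [eq_sub_of_add_eq h1, wedge_apply]
      by_cases hS : m ∈ S
      · rw [if_pos hS, if_pos hS, hβs S (fun h => hm (h hS)), smul_zero, zero_sub]
        by_cases hW : S.erase m ⊆ W
        · simp only [bb, if_pos hW]
          rw [← mul_smul, sgn_mul_self, one_smul, Finset.insert_erase hS, add_neg_cancel]
        · rw [hs S fun h => hW fun a ha => (Finset.mem_insert.1 (h (Finset.mem_of_mem_erase ha))).resolve_left
              (Finset.ne_of_mem_erase ha), hbs _ hW, smul_zero, neg_zero, add_zero]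
      · rw [if_neg hS, if_neg hS, sub_zero]
    have hc's : Supp W c' := fun S hS => by
      rw [hc']
      show (if m ∈ S then 0 else _) = (0 : MvPolynomial ι k)
      split_ifs with h
      · rfl
      · rw [hs S (fun h' => hS fun a ha => (Finset.mem_insert.1 (h' ha)).resolve_left fun e => h (e ▸ ha)), hβs S hS,
          smul_zero, add_zero]
    obtain ⟨b', hb'c, hb's, hb'd⟩ := ih q c' (hc.add ((hβc.wedge_card m).d_card Xc)) hc's
      (by show d Xc (c + d Xc (wedge m β)) = 0; rw [map_add, hd, d_d, add_zero])
    refine ⟨b' - wedge m β, hb'c.sub (hβc.wedge_card m), fun S hS => ?_, by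
      rw [map_sub, hb'd]; exact add_sub_cancel_right _ _⟩
    rw [Pi.sub_apply, hb's S (fun h => hS (h.trans (Finset.subset_insert m W))), wedge_apply, zero_sub]
    split_ifs with h
    · rw [hβs _ (fun h' => hS fun a ha => ?_), smul_zero, neg_zero]
      rcases eq_or_ne a m with rfl | hne
      · exact Finset.mem_insert_self _ _
      · exact Finset.mem_insert_of_mem (h' (Finset.mem_erase.2 ⟨hne, ha⟩))
    · exact neg_zero

end Poly

end Groth.Agent.GreenSyz
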