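import Groth.Agent.GreenSyz.Chain
import Mathlib.LinearAlgebra.Pi

/-!
# Vanishing of Koszul homology from generation of the iterated linear syzygy modules
-/

set_option autoImplicit false
set_option linter.unusedSectionVars false

universe u v

namespace Groth.Agent.GreenSyz

open Finset

variable {k : Type*} [CommRing k] {A : Type u} [CommRing A] [Algebra k A] {ι : Type} [Fintype ι] [LinearOrder ι]
  (x : ι → A)

section Defs

variable {R : Type u} [AddCommGroup R] [Module A R]

/-- The iterated linear syzygy condition. -/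
def IsT (i : ℕ) (m : (Fin i → ι) → R) : Prop :=
  ∀ (s : Fin i) (c : Fin i → ι), ∑ v : ι, x v • m (Function.update c s v) = 0

variable [Module k R]

/-- Every element of the `i`-th syzygy module with values in degree `e` comes from degree `e - 1`. -/
def GenBelow (ℳ : ℤ → Submodule k R) (p : ℕ) (e : ℤ) : Prop :=
  ∀ i : ℕ, i ≤ p → ∀ m : (Fin i → ι) → R, IsT x i m → (∀ c, m c ∈ ℳ e) →
    ∃ w : ι → (Fin i → ι) → R, (∀ v, IsT x i (w v)) ∧ (∀ v c, w v c ∈ ℳ (e - 1)) ∧
      ∀ c, m c = ∑ v : ι, x v • w v c

variable [IsScalarTower k A R]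

theorem d_mem (ℳ : ℤ → Submodule k R) (hmul : ∀ v e, ∀ a ∈ ℳ e, x v • a ∈ ℳ (e + 1)) {e : ℤ}
    {c : Finset ι → R} (h : ∀ S, c S ∈ ℳ e) (S : Finset ι) : d x c S ∈ ℳ (e + 1) :=
  Submodule.sum_mem _ fun v _ => zsmul_mem (hmul v e _ (h _)) _

end Defs

/-- Cycles of cardinality `p` in degree `e` are boundaries. -/
theorem exists_boundary : ∀ (p : ℕ) {R : Type u} [AddCommGroup R] [Module A R] [Module k R] [IsScalarTower k A R]
    (ℳ : ℤ → Submodule k R) (_ : ∀ v e, ∀ a ∈ ℳ e, x v • a ∈ ℳ (e + 1)) (e : ℤ), GenBelow x ℳ p e →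
    ∀ z : Finset ι → R, Card p z → (∀ S, z S ∈ ℳ e) → d x z = 0 →
      ∃ y, Card (p + 1) y ∧ (∀ S, y S ∈ ℳ (e - 1)) ∧ d x y = z := by
  classical
  intro p
  induction p with
  | zero => ?_
  | succ p ih => ?_
  all_goals intro R _ _ _ _ ℳ hmul e hG z hz hze hdz
  all_goals
    have hlift : ∀ a ∈ ℳ e, ∃ w : ι → R, (∀ v, w v ∈ ℳ (e - 1)) ∧ a = ∑ v : ι, x v • w v := by
      intro a ha
      obtain ⟨w, -, hw, he⟩ := hG 0 (Nat.zero_le _) (fun _ => a) (fun s => s.elim0) (fun _ => ha)
      exact ⟨fun v => w v Fin.elim0, fun v => hw v _, he Fin.elim0⟩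
    choose σ hσmem hσeq using hlift
    let L : (ι → R) →ₗ[A] R := ∑ v : ι, x v • LinearMap.proj v
    have hL : ∀ f, L f = ∑ v : ι, x v • f v := fun f => by simp [L]
  case zero =>
    let s : Finset ι → (ι → R) := fun S => if S.card = 0 then σ _ (hze S) else 0
    have hs : Card 0 s := fun S hS => if_neg hS
    refine ⟨∑ v : ι, wedge v (fun S => s S v), fun S hS => ?_, fun S => ?_, ?_⟩
    · rw [Finset.sum_apply]
      exact Finset.sum_eq_zero fun v _ => ((hs.map (LinearMap.proj (R := A) (φ := fun _ : ι => R) v)).wedge_card v) S hS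
    · rw [Finset.sum_apply]
      refine Submodule.sum_mem _ fun v _ => ?_
      rw [wedge_apply]
      split_ifs
      · refine zsmul_mem ?_ _
        simp only [s]
        split_ifs
        · exact hσmem _ _ v
        · exact zero_mem _
      · exact zero_mem _
    · funext S
      rw [map_sum, Finset.sum_apply]
      have h : ∀ v, d x (wedge v (fun S => s S v)) S = x v • s S v := fun v => by
        have h1 := congrFun (d_wedge x v (fun S => s S v)) S
        have h2 : d x (fun S => s S v) = 0 := (hs.map (LinearMap.proj (R := A) (φ := fun _ : ι => R) v)).d_zero x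
        rwa [h2, map_zero, add_zero] at h1
      rw [Finset.sum_congr rfl fun v _ => h v]
      by_cases hS : S.card = 0
      · simp only [s, if_pos hS]
        exact (hσeq _ _).symm
      · rw [hz S hS]
        refine Finset.sum_eq_zero fun v _ => ?_
        simp only [s, if_neg hS, Pi.zero_apply, smul_zero]
  case succ =>
    let s : Finset ι → (ι → R) := fun S => if S.card = p + 1 then σ _ (hze S) else 0
    have hs : Card (p + 1) s := fun S hS => if_neg hS
    have hsmem : ∀ S v, s S v ∈ ℳ (e - 1) := fun S v => by
      simp only [s]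
      split_ifs
      · exact hσmem _ _ v
      · exact zero_mem _
    have hLs : (fun S => L (s S)) = z := by
      funext S
      rw [hL]
      by_cases hS : S.card = p + 1
      · simp only [s, if_pos hS]
        exact (hσeq _ _).symm
      · rw [hz S hS]
        simp [s, hS]
    let T : Submodule A (ι → R) := LinearMap.ker L
    have hds : ∀ S, d x s S ∈ T := fun S => LinearMap.mem_ker.2 <| by
      rw [← congrFun (d_map x L s) S, hLs, hdz]; rfl
    let 𝒯 : ℤ → Submodule k T := fun g =>
      { carrier := {f : T | ∀ v, (f : ι → R) v ∈ ℳ g}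
        add_mem' := fun ha hb v => add_mem (ha v) (hb v)
        zero_mem' := fun v => zero_mem (ℳ g)
        smul_mem' := fun c f hf v => (ℳ g).smul_mem c (hf v) }
    have hTmem : ∀ (f : T), ∑ v : ι, x v • (f : ι → R) v = 0 := fun f => (hL _).symm.trans (LinearMap.mem_ker.1 f.2)
    have hG1 : GenBelow x 𝒯 p e := by
      intro i hi m hm hme
      let m' : (Fin (i + 1) → ι) → R := fun c => (m (Fin.tail c) : ι → R) (c 0)
      have hm' : IsT x (i + 1) m' := by
        intro t c
        rcases Fin.eq_zero_or_eq_succ t with rfl | ⟨t, rfl⟩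
        · simp only [m', Fin.tail_update_zero, Function.update_self]
          exact hTmem (m (Fin.tail c))
        · simp only [m', Fin.tail_update_succ, Function.update_of_ne (Fin.succ_ne_zero t).symm]
          have h0 := congrArg (fun f : T => (f : ι → R) (c 0)) (hm t (Fin.tail c))
          simpa [Finset.sum_apply] using h0
      obtain ⟨w, hw1, hw2, hw3⟩ := hG (i + 1) (by omega) m' hm' (fun c => hme _ _)
      let w' : ι → (Fin i → ι) → T := fun v c => ⟨fun a => w v (Fin.cons a c), LinearMap.mem_ker.2 (by
        rw [hL]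
        refine Eq.trans (Finset.sum_congr rfl fun a _ => ?_) (hw1 v 0 (Fin.cons v c))
        rw [Fin.update_cons_zero])⟩
      refine ⟨w', fun v t c => ?_, fun v c a => hw2 _ _, fun c => Subtype.ext (funext fun a => ?_)⟩
      · refine Subtype.ext (funext fun a => ?_)
        have h1 := hw1 v t.succ (Fin.cons a c)
        simp only [← Fin.cons_update] at h1
        simpa [w', Finset.sum_apply] using h1
      · have h1 := hw3 (Fin.cons a c)
        simp only [m', Fin.tail_cons, Fin.cons_zero] at h1
        simpa [w', Finset.sum_apply] using h1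
    let ds : Finset ι → T := fun S => ⟨d x s S, hds S⟩
    obtain ⟨y, hy1, hy2, hy3⟩ := ih 𝒯 (fun v g f hf a => hmul v g _ (hf a)) e hG1 ds
      (fun S hS => Subtype.ext ((hs.d_card x) S hS))
      (fun S v => by
        show d x s S v ∈ ℳ e
        have hproj : d x (fun S => s S v) S = d x s S v :=
          congrFun (d_map x (LinearMap.proj (R := A) (φ := fun _ : ι => R) v) s) S
        rw [← hproj]
        have := d_mem (k := k) x ℳ hmul (c := fun S => s S v) (fun S => hsmem S v) S
        rw [sub_add_cancel] at this
        exact this)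
      (by
        funext S
        refine Subtype.ext ?_
        have h1 := congrFun (d_map x T.subtype ds) S
        exact h1.symm.trans (congrFun (d_d x s) S))
    let s' : Finset ι → (ι → R) := s - fun S => (y S : ι → R)
    have hs' : Card (p + 1) s' := hs.sub (hy1.map T.subtype)
    have hds' : d x s' = 0 := by
      show d x (s - fun S => (y S : ι → R)) = 0
      rw [map_sub]
      have h1 := d_map x T.subtype y
      rw [hy3] at h1
      exact sub_eq_zero.2 h1.symm
    have hLs' : ∀ S, ∑ v : ι, x v • s' S v = z S := fun S => by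
      rw [← hL, ← congrFun hLs S]
      show L (s S - (y S : ι → R)) = _
      rw [map_sub, show L (y S : ι → R) = 0 from LinearMap.mem_ker.1 (y S).2, sub_zero]
    refine ⟨∑ v : ι, wedge v (fun S => s' S v), fun S hS => ?_, fun S => ?_, ?_⟩
    · rw [Finset.sum_apply]
      exact Finset.sum_eq_zero fun v _ => ((hs'.map (LinearMap.proj (R := A) (φ := fun _ : ι => R) v)).wedge_card v) S hS
    · rw [Finset.sum_apply]
      refine Submodule.sum_mem _ fun v _ => ?_
      rw [wedge_apply]
      split_ifs
      · exact zsmul_mem (sub_mem (hsmem _ v) (hy2 _ v)) _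
      · exact zero_mem _
    · funext S
      rw [map_sum, Finset.sum_apply, ← hLs' S]
      refine Finset.sum_congr rfl fun v _ => ?_
      have h1 := congrFun (d_wedge x v (fun S => s' S v)) S
      have h2 : d x (fun S => s' S v) = 0 := by
        have := d_map x (LinearMap.proj (R := A) (φ := fun _ : ι => R) v) s'
        rw [hds'] at this
        exact this
      rwa [h2, map_zero, add_zero] at h1

end Groth.Agent.GreenSyz
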